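import Mathlib
import Cfsg.Agent.H648.NormTheta
import Cfsg.Agent.H104.EB.COne

/-!
# S4874, `p = 2`, T16: the rank of the principal block of a group with a normal self-centralizing Sylow subgroup
-/

set_option autoImplicit false

open Cfsg Subgroup

namespace Cfsg.Agent.H353.K5

open Cfsg.Agent.H648.GoodCount Cfsg.Agent.H648.NormTheta Cfsg.Agent.Characters.Core

universe u

/-- a group of odd order `> 1` has at least three classes -/
theorem three_le_classes {X : Type*} [Group X] [Finite X] (ho : Odd (Nat.card X)) (h1 : Nat.card X ≠ 1) :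
    3 ≤ Nat.card (ConjClasses X) := by
  classical
  obtain ⟨x, hx⟩ : ∃ x : X, x ≠ 1 := by
    by_contra hcon
    push Not at hcon
    apply h1
    have : Subsingleton X := ⟨fun a b => by rw [hcon a, hcon b]⟩
    exact Nat.card_eq_one_iff_unique.2 ⟨this, ⟨1⟩⟩
  have hinv : ¬ IsConj x x⁻¹ := by
    intro h
    obtain ⟨g, hg⟩ := isConj_iff.1 h
    have key : ∀ k : ℕ, g ^ (2 * k) * x * (g ^ (2 * k))⁻¹ = x := by
      intro k
      induction k with
      | zero => simp
      | succ k ih =>
        have h2 : g ^ (2 * (k + 1)) = g * g * g ^ (2 * k) := by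
          rw [Nat.mul_add, mul_one, pow_add, ← pow_two, ← pow_add, ← pow_add, add_comm]
        calc g ^ (2 * (k + 1)) * x * (g ^ (2 * (k + 1)))⁻¹
            = g * (g * (g ^ (2 * k) * x * (g ^ (2 * k))⁻¹) * g⁻¹) * g⁻¹ := by rw [h2]; group
          _ = g * x⁻¹ * g⁻¹ := by rw [ih, hg]
          _ = (g * x * g⁻¹)⁻¹ := by group
          _ = x := by rw [hg, inv_inv]
    have hog : Odd (orderOf g) := Odd.of_dvd_nat ho (orderOf_dvd_natCard g)
    obtain ⟨m, hm⟩ := hog
    have h3 : g ^ (2 * (m + 1)) = g := by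
      have : 2 * (m + 1) = orderOf g + 1 := by omega
      rw [this, pow_succ, pow_orderOf_eq_one, one_mul]
    have h4 := key (m + 1)
    rw [h3, hg] at h4
    have h5 : x * x = 1 := by
      calc x * x = x * x⁻¹ := by rw [h4]
        _ = 1 := mul_inv_cancel x
    have hox : Odd (orderOf x) := Odd.of_dvd_nat ho (orderOf_dvd_natCard x)
    have h6 : orderOf x ∣ 2 := orderOf_dvd_of_pow_eq_one (by rw [pow_two, h5])
    have h7 : orderOf x = 1 := by
      rcases (Nat.dvd_prime Nat.prime_two).1 h6 with h8 | h8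
      · exact h8
      · rw [h8] at hox
        exact absurd hox (by decide)
    exact hx (orderOf_eq_one_iff.1 h7)
  have hfin : Finite (ConjClasses X) := Finite.of_surjective _ ConjClasses.mk_surjective
  let f : Fin 3 → ConjClasses X := ![ConjClasses.mk 1, ConjClasses.mk x, ConjClasses.mk x⁻¹]
  have h1x : ∀ y : X, y ≠ 1 → ConjClasses.mk (1 : X) ≠ ConjClasses.mk y := by
    intro y hy h
    rw [ConjClasses.mk_eq_mk_iff_isConj] at h
    exact hy (isConj_one_right.1 h)
  have hxi : x⁻¹ ≠ 1 := inv_ne_one.2 hx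
  have hxx : ConjClasses.mk x ≠ ConjClasses.mk x⁻¹ := by
    intro h
    rw [ConjClasses.mk_eq_mk_iff_isConj] at h
    exact hinv h
  have hf : Function.Injective f := by
    intro i j hij
    fin_cases i <;> fin_cases j <;> first | rfl | (exfalso; revert hij; simp only [f]; first
      | exact h1x x hx
      | exact h1x x⁻¹ hxi
      | exact (h1x x hx).symm
      | exact (h1x x⁻¹ hxi).symm
      | exact hxx
      | exact hxx.symm)
  calc 3 = Nat.card (Fin 3) := by simp
    _ ≤ Nat.card (ConjClasses X) := Nat.card_le_card_of_injective f hf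

variable {C : Type u} [Group C] [Finite C] {p : ℕ} {M : Ideal AlgInt}

/-- **the rank of a group with a normal self-centralizing Sylow subgroup** -/
theorem classes_le_rank (hM : IsPModular p M) (E : Subgroup C) [E.Normal] (hE : IsPGroup p E)
    (hidx : ¬ p ∣ E.index) (hC : centralizer (E : Set C) ≤ E) :
    Nat.card (ConjClasses (C ⧸ E)) ≤ blockRank p (principalBlock M C) := by
  classical
  have : Fact p.Prime := ⟨hM.1⟩
  have hone := Cfsg.Agent.H104.EB.COne.oneBlock_of_constrained hM E hE hC
  let θ : IrrCharacter E := ⟨1, isIrr_one⟩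
  have h1 := card_over_le_blockRank (p := p) E hE (N := E) le_rfl (θ := θ) (fun n _ => rfl)
    (by
      rw [Subgroup.relIndex_self]
      simp) hidx (β := principalBlock M C) (fun χ _ => hone χ)
  refine le_trans ?_ h1
  rw [← card_irr]
  have hfin := finite_irr (G := C)
  have hfin2 := finite_irr (G := C ⧸ E)
  refine Nat.card_le_card_of_injective (fun χ : IrrCharacter (C ⧸ E) =>
    (⟨⟨(χ : C ⧸ E → ℂ) ∘ (QuotientGroup.mk' E),
      isIrr_comp (QuotientGroup.mk' E) (QuotientGroup.mk'_surjective E) χ.2⟩, ?_⟩ : Over E (θ : E → ℂ))) ?_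
  · rw [mem_over]
    intro n
    have h2 : (QuotientGroup.mk' E) (n : C) = 1 := (QuotientGroup.eq_one_iff (n : C)).2 n.2
    change (χ : C ⧸ E → ℂ) ((QuotientGroup.mk' E) (n : C)) * (1 : ℂ) =
      (χ : C ⧸ E → ℂ) ((QuotientGroup.mk' E) 1) * (1 : ℂ)
    rw [h2, map_one]
  · intro χ χ' h
    have h2 := congrArg (fun z => ((z : IrrCharacter C) : C → ℂ)) (congrArg Subtype.val h)
    apply Subtype.ext
    funext y
    obtain ⟨c, rfl⟩ := QuotientGroup.mk'_surjective E y
    exact congrFun h2 c

theorem three_le_rank (hM : IsPModular 2 M) (E : Subgroup C) [E.Normal] (hE : IsPGroup 2 E)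
    (hidx : ¬ 2 ∣ E.index) (hC : centralizer (E : Set C) ≤ E) (h1 : E.index ≠ 1) :
    3 ≤ blockRank 2 (principalBlock M C) := by
  refine le_trans ?_ (classes_le_rank hM E hE hidx hC)
  refine three_le_classes ?_ h1
  rw [← Nat.not_even_iff_odd, even_iff_two_dvd]
  exact hidx

end Cfsg.Agent.H353.K5
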