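import Mathlib
import Cfsg.Agent.H353.K5.Rank
import Cfsg.Agent.H844.K5.Base
import Cfsg.Agent.WeakTI.BenderModel
import Cfsg.Agent.S1119

/-!
# S4874, `p = 2`, T16: overgroups of odd index of a simple rank-one group
-/

set_option autoImplicit false
set_option linter.unusedSectionVars false

open Cfsg Subgroup

namespace Cfsg.Agent.H353.K5

open MulAction (stabilizer)
open Cfsg.Agent.LieRecognition Cfsg.Agent.WeakTI.BenderAct

universe u

section inner

variable {S Ω : Type*} [Group S] [MulAction S Ω] {a : Ω} {t : S} {Q : Subgroup S} {i : ℕ}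

theorem isPGroup_of_facts (h : Facts S Ω a t Q i) : IsPGroup 2 Q := by
  intro x
  refine ⟨2, Subtype.ext ?_⟩
  have h1 := h.sq x x.2
  have h2 : (x : S) ^ 2 ^ 2 = ((x : S) * x) * (x * x) := by simp [pow_succ, mul_assoc]
  change (x : S) ^ 2 ^ 2 = 1
  rw [h2, h1]

variable [Finite S]

/-- 2-elements of the point stabilizer lie in `Q` -/
theorem mem_of_pow (h : IsRankOneSetup S Ω a t Q) {x : S} (hx : x ∈ stabilizer S a) {k : ℕ}
    (hk : x ^ 2 ^ k = 1) : x ∈ Q := by
  obtain ⟨q, hq, d, hd, rfl⟩ := RankOneBasic.exists_mul_of_mem_stabilizer h hx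
  have hdN : d ∈ normalizer (Q : Set S) :=
    RankOneBasic.stabilizer_le_normalizer h (mem_inf.mp hd).1
  have key : ∀ n : ℕ, ∃ q' ∈ Q, (q * d) ^ n = q' * d ^ n := by
    intro n
    induction n with
    | zero => exact ⟨1, Q.one_mem, by simp⟩
    | succ n ih =>
      obtain ⟨q', hq', he⟩ := ih
      refine ⟨q' * (d ^ n * q * (d ^ n)⁻¹), Q.mul_mem hq' ?_, ?_⟩
      · exact (Subgroup.mem_normalizer_iff.mp (pow_mem hdN n) q).mp hq
      · rw [pow_succ, he, pow_succ]; group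
  obtain ⟨q', hq', he⟩ := key (2 ^ k)
  rw [hk] at he
  have h1 : d ^ 2 ^ k ∈ Q := by
    have : d ^ 2 ^ k = q'⁻¹ := by
      rw [eq_inv_iff_mul_eq_one]
      have h2 := congrArg (fun z => q'⁻¹ * z * q') he
      simpa [mul_assoc] using h2.symm
    rw [this]; exact Q.inv_mem hq'
  have hD : d ^ 2 ^ k ∈ stabilizer S (t • a) := pow_mem (mem_inf.mp hd).2 _
  have h2 : d ^ 2 ^ k ∈ Q ⊓ stabilizer S (t • a) := mem_inf.mpr ⟨h1, hD⟩
  rw [h.inf_eq_bot, mem_bot] at h2
  have h3 : orderOf d ∣ 2 ^ k := orderOf_dvd_of_pow_eq_one h2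
  have h4 : Odd (orderOf d) := by
    have h5 := orderOf_dvd_natCard
      (⟨d, hd⟩ : ↥(stabilizer S a ⊓ stabilizer S (t • a)))
    rw [Subgroup.orderOf_mk] at h5
    exact Odd.of_dvd_nat h.odd_card h5
  have h5 : orderOf d = 1 :=
    Nat.eq_one_of_dvd_coprimes (Nat.Coprime.pow_right k (Nat.coprime_two_right.mpr h4))
      dvd_rfl h3
  rw [orderOf_eq_one_iff] at h5
  rw [h5, mul_one]; exact hq

/-- the index of `Q` is odd -/
theorem odd_index (h : IsRankOneSetup S Ω a t Q) : Odd Q.index := by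
  have h1 := Cfsg.Agent.S1119.card_G h
  have h2 := Q.card_mul_index
  have h3 : Q.index = Nat.card ↥(stabilizer S a ⊓ stabilizer S (t • a)) * (Nat.card Q + 1) := by
    have h4 : 0 < Nat.card Q := Nat.card_pos
    apply Nat.eq_of_mul_eq_mul_left h4
    rw [h2, h1, mul_assoc]
  rw [h3]
  exact h.odd_card.mul h.even_card.add_one

/-- 2-subgroups fix points -/
theorem exists_fixed (h : IsRankOneSetup S Ω a t Q) (R : Subgroup S) (hR : IsPGroup 2 R) :
    ∃ b : Ω, ∀ x ∈ R, x • b = b := by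
  have hfin := RankOneBasic.finite_points h
  have : Fact (Nat.Prime 2) := ⟨Nat.prime_two⟩
  have hodd : ¬ 2 ∣ Nat.card Ω := by
    have := RankOneBasic.odd_card_points h
    rwa [← Nat.not_even_iff_odd, even_iff_two_dvd] at this
  obtain ⟨b, hb⟩ := hR.nonempty_fixed_point_of_prime_not_dvd_card Ω hodd
  exact ⟨b, fun x hx => hb ⟨x, hx⟩⟩

/-- the normalizer of `Q` is the point stabilizer -/
theorem mem_stabilizer_of_conj (h : IsRankOneSetup S Ω a t Q) {x g : S} (hx : x ∈ Q) (hx1 : x ≠ 1)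
    (hg : g * x * g⁻¹ ∈ Q) : g ∈ stabilizer S a := by
  by_contra hga
  have h1 : g • a ≠ a := fun h1 => hga (MulAction.mem_stabilizer_iff.2 h1)
  have h2 : (g * x * g⁻¹) • (g • a) = g • a := by
    rw [mul_smul, mul_smul, inv_smul_smul, MulAction.mem_stabilizer_iff.1 (h.le hx)]
  have h3 := RankOneBasic.eq_one_of_smul_eq h hg h1 h2
  apply hx1
  have : x = g⁻¹ * (g * x * g⁻¹) * g := by group
  rw [this, h3]; group

end inner

section outer

variable {G : Type u} [Group G] [Finite G] {S : Subgroup G} {Ω : Type*} [MulAction S Ω] {a : Ω} {t : S}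
  {Q : Subgroup S} {i : ℕ}

theorem mem_map {Q : Subgroup S} {g : G} : g ∈ Q.map S.subtype ↔ ∃ h : g ∈ S, (⟨g, h⟩ : S) ∈ Q := by
  constructor
  · rintro ⟨x, hx, rfl⟩
    exact ⟨x.2, hx⟩
  · rintro ⟨h, hx⟩
    exact ⟨⟨g, h⟩, hx, rfl⟩

theorem conj_le (hS : S.Normal) (g : G) : (Q.map S.subtype).map (MulAut.conj g).toMonoidHom ≤ S := by
  rintro _ ⟨_, ⟨x, -, rfl⟩, rfl⟩
  exact hS.conj_mem _ x.2 g

/-- all conjugates of `Q` in `G` are conjugate in `S` -/
theorem exists_conj (hS : S.Normal) (h : Facts S Ω a t Q i) (g : G) :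
    ∃ s : S, (Q.map S.subtype).map (MulAut.conj g).toMonoidHom =
      (Q.map S.subtype).map (MulAut.conj (s : G)).toMonoidHom := by
  obtain ⟨R, hR⟩ : ∃ R : Subgroup G, R = (Q.map S.subtype).map (MulAut.conj g).toMonoidHom := ⟨_, rfl⟩
  have hRS : R ≤ S := by rw [hR]; exact conj_le hS g
  have hQ2 := isPGroup_of_facts h
  have hR2 : IsPGroup 2 R := by rw [hR]; exact (hQ2.map _).map _
  have hR' : IsPGroup 2 (R.subgroupOf S) := hR2.comap_subtype
  obtain ⟨b, hb⟩ := exists_fixed h.base _ hR'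
  obtain ⟨s, hs⟩ := RankOneBasic.exists_smul_eq' h.base a b
  refine ⟨s, ?_⟩
  rw [← hR]
  refine Subgroup.eq_of_le_of_card_ge ?_ ?_
  · intro y hy
    have hyS : (⟨y, hRS hy⟩ : S) ∈ R.subgroupOf S := hy
    have h1 : (s⁻¹ * ⟨y, hRS hy⟩ * s : S) ∈ Q := by
      obtain ⟨k, hk⟩ := hR' ⟨_, hyS⟩
      have hk' : (⟨y, hRS hy⟩ : S) ^ 2 ^ k = 1 := congrArg Subtype.val hk
      refine mem_of_pow h.base (k := k) ?_ ?_
      · rw [MulAction.mem_stabilizer_iff, mul_smul, mul_smul, hs, hb _ hyS, ← hs, inv_smul_smul]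
      · have h2 : s⁻¹ * (⟨y, hRS hy⟩ : S) * s = s⁻¹ * (⟨y, hRS hy⟩ : S) * s⁻¹⁻¹ := by group
        rw [h2, conj_pow, hk']
        group
    refine ⟨_, ⟨_, h1, rfl⟩, ?_⟩
    change (s : G) * ((s⁻¹ * ⟨y, hRS hy⟩ * s : S) : G) * (s : G)⁻¹ = y
    push_cast
    group
  · rw [hR, RankOneBase.card_map_conj, RankOneBase.card_map_conj]

/-- `S N_G(P) = G` -/
theorem exists_mul (hS : S.Normal) (h : Facts S Ω a t Q i) (g : G) :
    ∃ s : S, ∃ n ∈ normalizer ((Q.map S.subtype : Subgroup G) : Set G), g = (s : G) * n := by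
  obtain ⟨s, hs⟩ := exists_conj hS h g
  refine ⟨s, (s : G)⁻¹ * g, ?_, by group⟩
  obtain ⟨P, hP⟩ : ∃ P : Subgroup G, P = Q.map S.subtype := ⟨_, rfl⟩
  rw [← hP] at hs ⊢
  have key : ∀ x : G, x ∈ P.map (MulAut.conj g).toMonoidHom ↔ g⁻¹ * x * g ∈ P :=
    fun x => RankOneBase.mem_map_conj_iff P g x
  have key' : ∀ x : G, x ∈ P.map (MulAut.conj (s : G)).toMonoidHom ↔ (s : G)⁻¹ * x * s ∈ P :=
    fun x => RankOneBase.mem_map_conj_iff P s x
  rw [Subgroup.mem_normalizer_iff]
  intro x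
  have e1 : g⁻¹ * (g * x * g⁻¹) * g = x := by group
  have e2 : (s : G)⁻¹ * (g * x * g⁻¹) * s = (s : G)⁻¹ * g * x * ((s : G)⁻¹ * g)⁻¹ := by group
  rw [← e2, ← key', ← hs, key, e1]

/-- `N_G(P) ∩ S` is the point stabilizer -/
theorem mem_normalizer_coe (h : Facts S Ω a t Q i) {s : S} :
    (s : G) ∈ normalizer ((Q.map S.subtype : Subgroup G) : Set G) ↔ s ∈ stabilizer S a := by
  constructor
  · intro hs
    obtain ⟨x, hx, hx1, -⟩ := RankOneBasic.exists_involution h.base
    refine mem_stabilizer_of_conj h.base hx hx1 ?_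
    have h1 : (s : G) * (x : G) * (s : G)⁻¹ ∈ Q.map S.subtype :=
      (Subgroup.mem_normalizer_iff.1 hs _).1 ⟨x, hx, rfl⟩
    obtain ⟨h2, h3⟩ := mem_map.1 h1
    exact h3
  · intro hs
    have key : ∀ s ∈ stabilizer S a, ∀ x : G, x ∈ Q.map S.subtype → (s : G) * x * (s : G)⁻¹ ∈ Q.map S.subtype := by
      rintro s hs _ ⟨x, hx, rfl⟩
      exact ⟨s * x * s⁻¹, h.base.conj_mem s hs x hx, rfl⟩
    rw [Subgroup.mem_normalizer_iff]
    intro x
    refine ⟨key s hs x, fun hx => ?_⟩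
    have h1 := key s⁻¹ (inv_mem hs) _ hx
    have e : ((s⁻¹ : S) : G) * ((s : G) * x * (s : G)⁻¹) * ((s⁻¹ : S) : G)⁻¹ = x := by
      push_cast; group
    rwa [e] at h1

/-- `P` is a TI subgroup of `G` -/
theorem mem_normalizer_of_conj (hS : S.Normal) (h : Facts S Ω a t Q i) {x g : G}
    (hx : x ∈ Q.map S.subtype) (hx1 : x ≠ 1) (hg : g * x * g⁻¹ ∈ Q.map S.subtype) :
    g ∈ normalizer ((Q.map S.subtype : Subgroup G) : Set G) := by
  obtain ⟨s, n, hn, rfl⟩ := exists_mul hS h g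
  have h1 : n * x * n⁻¹ ∈ Q.map S.subtype := (Subgroup.mem_normalizer_iff.1 hn x).1 hx
  refine mul_mem ((mem_normalizer_coe h).2 ?_) hn
  obtain ⟨h2, h3⟩ := mem_map.1 h1
  have h4 : (s : G) * n * x * ((s : G) * n)⁻¹ = (s : G) * (n * x * n⁻¹) * (s : G)⁻¹ := by group
  rw [h4] at hg
  obtain ⟨h5, h6⟩ := mem_map.1 hg
  refine mem_stabilizer_of_conj h.base h3 ?_ h6
  intro h7
  apply hx1
  have h8 : n * x * n⁻¹ = 1 := congrArg Subtype.val h7
  have : x = n⁻¹ * (n * x * n⁻¹) * n := by group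
  rw [this, h8]; group

/-- transitivity of `P` on the cosets of `N_G(P)` -/
theorem exists_coset (hS : S.Normal) (h : Facts S Ω a t Q i) {g : G}
    (hg : g ∉ normalizer ((Q.map S.subtype : Subgroup G) : Set G)) :
    ∃ u : S, u ∈ Q ∧ ∃ n ∈ normalizer ((Q.map S.subtype : Subgroup G) : Set G), g = (u : G) * t * n := by
  obtain ⟨s, n, hn, rfl⟩ := exists_mul hS h g
  have hsa : s • a ≠ a := by
    intro h1
    exact hg (mul_mem ((mem_normalizer_coe h).2 (MulAction.mem_stabilizer_iff.2 h1)) hn)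
  obtain ⟨u, hu, hus⟩ := RankOneBasic.exists_smul_t_smul h.base hsa
  refine ⟨u, hu, (((u * t)⁻¹ * s : S) : G) * n, mul_mem ((mem_normalizer_coe h).2 ?_) hn, ?_⟩
  · rw [MulAction.mem_stabilizer_iff, mul_smul, ← hus, mul_inv_rev, mul_smul, inv_smul_smul, inv_smul_smul]
  · push_cast
    group

/-- elements of odd order centralizing `P` are trivial -/
theorem eq_one_of_odd (hS : S.Normal) (hs : IsSimpleGroup S) (hc : centralizer (S : Set G) = ⊥)
    (h : Facts S Ω a t Q i) {y : G} (hy : y ∈ centralizer ((Q.map S.subtype : Subgroup G) : Set G))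
    (hodd : Odd (orderOf y)) : y = 1 := by
  obtain ⟨N, hN⟩ : ∃ N : Subgroup G, N = normalizer ((Q.map S.subtype : Subgroup G) : Set G) := ⟨_, rfl⟩
  have hyN : y ∈ N := by
    rw [hN]
    exact centralizer_le_normalizer _ hy
  have htN : (t : G) ∉ N := by
    rw [hN, mem_normalizer_coe h]
    exact h.base.not_mem
  have hcom : ∀ u ∈ Q, y * (u : G) = (u : G) * y := by
    intro u hu
    exact (Subgroup.mem_centralizer_iff.1 hy (u : G) ⟨u, hu, rfl⟩).symm
  -- `y` fixes the coset of `t`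
  have hyt : (t : G)⁻¹ * y * t ∈ N := by
    have h1 : y * (t : G) ∉ normalizer ((Q.map S.subtype : Subgroup G) : Set G) := by
      rw [← hN]
      intro h1
      exact htN (by
        have := mul_mem (inv_mem hyN) h1
        rwa [inv_mul_cancel_left] at this)
    obtain ⟨u, hu, n, hn, h2⟩ := exists_coset hS h h1
    rw [← hN] at hn
    have key : ∀ k : ℕ, ∃ m ∈ N, y ^ k * (t : G) = (u : G) ^ k * t * m := by
      intro k
      induction k with
      | zero => exact ⟨1, one_mem _, by simp⟩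
      | succ k ih =>
        obtain ⟨m, hm, hk⟩ := ih
        refine ⟨n * m, mul_mem hn hm, ?_⟩
        have h3 : y * (u : G) ^ k = (u : G) ^ k * y := by
          have h4 : Commute y ((u : G) ^ k) := Commute.pow_right (hcom u hu) k
          exact h4.eq
        calc y ^ (k + 1) * (t : G) = y * (y ^ k * t) := by rw [pow_succ', mul_assoc]
          _ = (y * (u : G) ^ k) * t * m := by rw [hk]; group
          _ = (u : G) ^ k * (y * t) * m := by rw [h3]; group
          _ = (u : G) ^ k * ((u : G) * t * n) * m := by rw [h2]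
          _ = (u : G) ^ (k + 1) * t * (n * m) := by rw [pow_succ]; group
    obtain ⟨m, hm, hk⟩ := key (orderOf y)
    rw [pow_orderOf_eq_one, one_mul] at hk
    have h5 : (t : G)⁻¹ * (u : G) ^ orderOf y * t ∈ N := by
      have h6 : (t : G)⁻¹ * (u : G) ^ orderOf y * t = m⁻¹ := by
        rw [eq_inv_iff_mul_eq_one]
        calc (t : G)⁻¹ * (u : G) ^ orderOf y * t * m = (t : G)⁻¹ * ((u : G) ^ orderOf y * t * m) := by group
          _ = 1 := by rw [← hk, inv_mul_cancel]
      rw [h6]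
      exact inv_mem hm
    have h6 : u ^ orderOf y = 1 := by
      have h7 : ((t⁻¹ * u ^ orderOf y * t : S) : G) ∈ N := by
        push_cast
        exact h5
      rw [hN, mem_normalizer_coe h, MulAction.mem_stabilizer_iff, mul_smul, mul_smul, inv_smul_eq_iff] at h7
      exact RankOneBasic.eq_one_of_smul_eq h.base (pow_mem hu _) (RankOneBasic.t_smul_ne h.base) h7
    have h7 : orderOf u ∣ orderOf y := orderOf_dvd_of_pow_eq_one h6
    have h8 : orderOf u ∣ 2 ^ 2 := by
      apply orderOf_dvd_of_pow_eq_one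
      have h9 : u ^ 2 ^ 2 = (u * u) * (u * u) := by simp [pow_succ, mul_assoc]
      rw [h9, h.sq u hu]
    have h9 : orderOf u = 1 :=
      Nat.eq_one_of_dvd_coprimes (Nat.Coprime.pow_right 2 (Nat.coprime_two_right.mpr hodd)) h7 h8
    rw [orderOf_eq_one_iff] at h9
    have h10 : (t : G)⁻¹ * y * t = n := by
      rw [mul_assoc, h2, h9]
      push_cast
      group
    rw [h10]
    exact hn
  -- `y` fixes all cosets
  have hall : ∀ g : G, g⁻¹ * y * g ∈ N := by
    intro g
    by_cases hg : g ∈ N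
    · exact mul_mem (mul_mem (inv_mem hg) hyN) hg
    · rw [hN] at hg
      obtain ⟨u, hu, n, hn, rfl⟩ := exists_coset hS h hg
      rw [← hN] at hn
      have h1 : ((u : G) * t * n)⁻¹ * y * ((u : G) * t * n) = n⁻¹ * ((t : G)⁻¹ * y * t) * n := by
        have h2 : (u : G)⁻¹ * y * u = y := by rw [mul_assoc, hcom u hu, inv_mul_cancel_left]
        calc ((u : G) * t * n)⁻¹ * y * ((u : G) * t * n)
            = n⁻¹ * ((t : G)⁻¹ * ((u : G)⁻¹ * y * u) * t) * n := by group
          _ = n⁻¹ * ((t : G)⁻¹ * y * t) * n := by rw [h2]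
      rw [h1]
      exact mul_mem (mul_mem (inv_mem hn) hyt) hn
  have hyK : y ∈ N.normalCore := by
    intro g
    have h1 := hall g⁻¹
    rwa [inv_inv] at h1
  have hKS : N.normalCore ⊓ S = ⊥ := by
    have h1 : (N.normalCore.subgroupOf S).Normal := Subgroup.normal_subgroupOf
    rcases h1.eq_bot_or_eq_top with h2 | h2
    · rwa [Subgroup.subgroupOf_eq_bot, disjoint_iff] at h2
    · exfalso
      rw [Subgroup.subgroupOf_eq_top] at h2
      exact htN (N.normalCore_le (h2 t.2))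
  have hyc : y ∈ centralizer (S : Set G) := by
    rw [Subgroup.mem_centralizer_iff]
    intro s hsS
    have h1 := Subgroup.commute_of_normal_of_disjoint S N.normalCore hS inferInstance
      (disjoint_iff.2 (by rw [inf_comm]; exact hKS)) s y hsS hyK
    exact h1.eq
  rw [hc, Subgroup.mem_bot] at hyc
  exact hyc

end outer

end Cfsg.Agent.H353.K5
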