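import Mathlib
import Cfsg.Agent.H353.K5.Act

/-!
# S4874, `p = 2`, T16: the contradiction from an involution whose centralizer is not a 2-group
-/

set_option autoImplicit false
set_option linter.unusedSectionVars false

open Cfsg Subgroup

namespace Cfsg.Agent.H353.K5

open MulAction (stabilizer)
open Cfsg.Agent.LieRecognition Cfsg.Agent.WeakTI.BenderAct Cfsg.Agent.H844.K5 Cfsg.Agent.H634

universe u

/-- 2-elements of a group with a normal subgroup of odd index -/
theorem mem_of_pow_two {X : Type*} [Group X] (E : Subgroup X) [E.Normal] (hE : ¬ 2 ∣ E.index) {x : X} {k : ℕ}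
    (hx : x ^ 2 ^ k = 1) : x ∈ E := by
  have hodd : Odd E.index := by
    rw [← Nat.not_even_iff_odd, even_iff_two_dvd]
    exact hE
  have h1 : (QuotientGroup.mk x : X ⧸ E) ^ 2 ^ k = 1 := by
    rw [← QuotientGroup.mk_pow, hx, QuotientGroup.mk_one]
  have h2 : orderOf (QuotientGroup.mk x : X ⧸ E) ∣ 2 ^ k := orderOf_dvd_of_pow_eq_one h1
  have h3 : orderOf (QuotientGroup.mk x : X ⧸ E) ∣ E.index := orderOf_dvd_natCard _
  have h4 : orderOf (QuotientGroup.mk x : X ⧸ E) = 1 :=
    Nat.eq_one_of_dvd_coprimes (Nat.Coprime.pow_right k (Nat.coprime_two_right.mpr hodd)) h3 h2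
  rw [orderOf_eq_one_iff] at h4
  exact (QuotientGroup.eq_one_iff x).1 h4

section

variable {G : Type u} [Group G] [Finite G] {M : Ideal AlgInt} {S : Subgroup G} {Ω : Type*} [MulAction S Ω] {a : Ω}
  {t : S} {Q : Subgroup S} {i : ℕ}

theorem odd_index_map (hodd : Odd S.index) (h : Facts S Ω a t Q i) : Odd (Q.map S.subtype).index := by
  have h1 : (Q.map S.subtype).relIndex S * S.index = (Q.map S.subtype).index :=
    Subgroup.relIndex_mul_index (by rintro _ ⟨x, -, rfl⟩; exact x.2)
  have h2 : (Q.map S.subtype).relIndex S = Q.index := by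
    unfold Subgroup.relIndex
    have h3 : (Q.map S.subtype).subgroupOf S = Q := by
      ext x
      rw [Subgroup.mem_subgroupOf, mem_map]
      exact ⟨fun ⟨_, h4⟩ => h4, fun h4 => ⟨x.2, h4⟩⟩
    rw [h3]
  rw [← h1, h2]
  exact (odd_index h.base).mul hodd

/-- **the contradiction from an involution whose centralizer is not a 2-group** -/
theorem false_of_centralizer (h : Sit M G S) (hf : Facts S Ω a t Q i) {x : S} (hx : x ∈ Q) (hxx : x * x ≠ 1)
    (hz : ¬ IsPGroup 2 ↥(centralizer ({((x * x : S) : G)} : Set G))) : False := by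
  classical
  have h2p : Fact (Nat.Prime 2) := ⟨Nat.prime_two⟩
  have hM := h.modular
  obtain ⟨z, hzdef⟩ : ∃ z : S, z = x * x := ⟨_, rfl⟩
  rw [← hzdef] at hz hxx
  have hzQ : z ∈ Q := by rw [hzdef]; exact mul_mem hx hx
  have hzz : z * z = 1 := by rw [hzdef]; exact hf.sq x hx
  have hcent := hf.cent z hzQ hzz
  have hzG : (z : G) ≠ 1 := fun h1 => hxx (Subtype.ext h1)
  obtain ⟨P, hP⟩ : ∃ P : Subgroup G, P = Q.map S.subtype := ⟨_, rfl⟩
  obtain ⟨C, hC⟩ : ∃ C : Subgroup G, C = centralizer ({(z : G)} : Set G) := ⟨_, rfl⟩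
  rw [← hC] at hz
  have hzP : (z : G) ∈ P := by rw [hP]; exact ⟨z, hzQ, rfl⟩
  have hPC : P ≤ C := by
    rw [hP, hC]
    rintro _ ⟨u, hu, rfl⟩
    rw [Subgroup.mem_centralizer_singleton_iff]
    exact (congrArg Subtype.val (hcent u hu)).symm
  have hCN : C ≤ normalizer (P : Set G) := by
    intro g hg
    rw [hC, Subgroup.mem_centralizer_singleton_iff] at hg
    rw [hP]
    refine mem_normalizer_of_conj h.normal hf (x := (z : G)) ?_ hzG ?_
    · rw [← hP]; exact hzP
    · rw [hg, mul_inv_cancel_right, ← hP]; exact hzP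
  have hPp : IsPGroup 2 P := by rw [hP]; exact (isPGroup_of_facts hf).map _
  obtain ⟨E, hE⟩ : ∃ E : Subgroup C, E = P.subgroupOf C := ⟨_, rfl⟩
  have hEn : E.Normal := by rw [hE]; exact Subgroup.normal_subgroupOf_of_le_normalizer hCN
  have hEp : IsPGroup 2 E := by rw [hE]; exact hPp.comap_subtype
  have hidx : ¬ 2 ∣ E.index := by
    have h1 : P.relIndex C * C.index = P.index := Subgroup.relIndex_mul_index hPC
    have h2 : Odd P.index := by rw [hP]; exact odd_index_map h.odd hf
    have h3 : Odd (P.relIndex C) := Odd.of_dvd_nat h2 (Dvd.intro _ h1)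
    rw [← even_iff_two_dvd, Nat.not_even_iff_odd, hE]
    exact h3
  have hEC : centralizer (E : Set C) ≤ E := by
    intro c hc
    have hcP : (c : G) ∈ centralizer ((Q.map S.subtype : Subgroup G) : Set G) := by
      rw [← hP, Subgroup.mem_centralizer_iff]
      intro u hu
      have h1 := Subgroup.mem_centralizer_iff.1 hc ⟨u, hPC hu⟩ (by rw [hE]; exact hu)
      exact congrArg Subtype.val h1
    obtain ⟨k, m, hm, hkm⟩ := Nat.exists_eq_two_pow_mul_odd (orderOf_pos (c : G)).ne'
    have h1 : (c : G) ^ 2 ^ k = 1 := by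
      refine eq_one_of_odd h.normal h.simple h.cent hf (pow_mem hcP _) ?_
      rw [orderOf_pow, hkm]
      have h2 : Nat.gcd (2 ^ k * m) (2 ^ k) = 2 ^ k := Nat.gcd_eq_right (Dvd.intro _ rfl)
      rw [h2, Nat.mul_div_cancel_left _ (by positivity)]
      exact hm
    exact mem_of_pow_two E hidx (k := k) (Subtype.ext h1)
  have hE1 : E.index ≠ 1 := by
    intro h1
    rw [Subgroup.index_eq_one] at h1
    apply hz
    have h2 : IsPGroup 2 (⊤ : Subgroup C) := by rw [← h1]; exact hEp
    exact h2.of_equiv Subgroup.topEquiv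
  have hrz : 3 ≤ blockRank 2 (principalBlock M C) := three_le_rank hM E hEp hidx hEC hE1
  -- the classes of `1`, `z`, `x`
  have hox : orderOf (x : G) ∣ 2 ^ 2 := by
    apply orderOf_dvd_of_pow_eq_one
    have h1 : (x : G) ^ 2 ^ 2 = ((x * x * (x * x) : S) : G) := by
      push_cast
      simp [pow_succ, mul_assoc]
    rw [h1, hf.sq x hx]
    rfl
  have hoz : orderOf (z : G) ∣ 2 ^ 1 := by
    apply orderOf_dvd_of_pow_eq_one
    have h1 : (z : G) ^ 2 ^ 1 = ((z * z : S) : G) := by
      push_cast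
      simp [pow_succ]
    rw [h1, hzz]
    rfl
  have hx1 : (x : G) ≠ 1 := by
    intro h1
    have h2 : x = 1 := Subtype.ext h1
    apply hxx
    rw [hzdef, h2, mul_one]
  have hxxG : (x : G) * x ≠ 1 := by
    intro h1
    apply hxx
    rw [hzdef]
    exact Subtype.ext h1
  have hzzG : (z : G) * z = 1 := congrArg Subtype.val hzz
  have hncj : ∀ u v : G, u * u = 1 → v * v ≠ 1 → ¬ IsConj u v := by
    intro u v hu hv huv
    obtain ⟨g, hg⟩ := isConj_iff.1 huv
    apply hv
    rw [← hg]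
    calc g * u * g⁻¹ * (g * u * g⁻¹) = g * (u * u) * g⁻¹ := by group
      _ = 1 := by rw [hu]; group
  have hsum := TwoA.sum_rank_le (p := 2) (G := G) hM ({1, (z : G), (x : G)} : Finset G)
    (by
      intro y hy
      simp only [Finset.mem_insert, Finset.mem_singleton] at hy
      rcases hy with rfl | rfl | rfl
      · exact ⟨0, by simp⟩
      · obtain ⟨k, -, hk⟩ := (Nat.dvd_prime_pow Nat.prime_two).1 hoz
        exact ⟨k, hk⟩
      · obtain ⟨k, -, hk⟩ := (Nat.dvd_prime_pow Nat.prime_two).1 hox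
        exact ⟨k, hk⟩)
    (by
      intro y hy w hw hyw
      simp only [Finset.mem_insert, Finset.mem_singleton] at hy hw
      rcases hy with rfl | rfl | rfl <;> rcases hw with rfl | rfl | rfl
      · rfl
      · exact (isConj_one_right.1 hyw).symm
      · exact (isConj_one_right.1 hyw).symm
      · exact isConj_one_left.1 hyw
      · rfl
      · exact absurd hyw (hncj _ _ hzzG hxxG)
      · exact isConj_one_left.1 hyw
      · exact absurd hyw.symm (hncj _ _ hzzG hxxG)
      · rfl)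
  have hzx : (z : G) ≠ x := by
    intro h1
    apply hxxG
    rw [← h1, hzzG]
  rw [Finset.sum_insert (by
      simp only [Finset.mem_insert, Finset.mem_singleton, not_or]
      exact ⟨Ne.symm hzG, Ne.symm hx1⟩), Finset.sum_pair hzx, TwoA.rank_one_eq hM, h.five.card, ← hC] at hsum
  have h1 := h.five.rank
  have h2 := Cols.blockRank_pos (G := ↥(Subgroup.centralizer ({(x : G)} : Set G))) hM
  omega

/-- `S ≠ G` -/
theorem not_isPGroup_of_index (hS : S.Normal) (hodd : Odd S.index) (h1 : S.index ≠ 1) (hf : Facts S Ω a t Q i) {z : S}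
    (hz1 : z ≠ 1) (hzz : z * z = 1) : ¬ IsPGroup 2 ↥(centralizer ({(z : G)} : Set G)) := by
  intro hp
  apply h1
  rw [Subgroup.index_eq_one, eq_top_iff]
  intro g _
  have h2 : g * (z : G) * g⁻¹ ∈ S := hS.conj_mem _ z.2 g
  obtain ⟨s, hs⟩ := RankOneInvolutions.isConj_involutions hf.base hz1 hzz (v := ⟨g * (z : G) * g⁻¹, h2⟩)
    (by
      intro h3
      have h4 : g * (z : G) * g⁻¹ = 1 := congrArg Subtype.val h3
      apply hz1
      apply Subtype.ext
      have : (z : G) = g⁻¹ * (g * (z : G) * g⁻¹) * g := by group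
      rw [this, h4]
      simp)
    (by
      apply Subtype.ext
      change g * (z : G) * g⁻¹ * (g * (z : G) * g⁻¹) = 1
      have h4 : (z : G) * z = 1 := congrArg Subtype.val hzz
      calc g * (z : G) * g⁻¹ * (g * (z : G) * g⁻¹) = g * ((z : G) * z) * g⁻¹ := by group
        _ = 1 := by rw [h4]; group)
  have hs' : (s : G) * (z : G) * (s : G)⁻¹ = g * (z : G) * g⁻¹ := congrArg Subtype.val hs
  have hc : (s : G)⁻¹ * g ∈ centralizer ({(z : G)} : Set G) := by
    rw [Subgroup.mem_centralizer_singleton_iff]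
    calc (s : G)⁻¹ * g * z = (s : G)⁻¹ * (g * (z : G) * g⁻¹) * g := by group
      _ = z * ((s : G)⁻¹ * g) := by rw [← hs']; group
  obtain ⟨k, hk⟩ := hp ⟨_, hc⟩
  have hk' : ((s : G)⁻¹ * g) ^ 2 ^ k = 1 := congrArg Subtype.val hk
  have h3 : (s : G)⁻¹ * g ∈ S := mem_of_pow_two S (by
    rw [← even_iff_two_dvd, Nat.not_even_iff_odd]
    exact hodd) hk'
  have : g = (s : G) * ((s : G)⁻¹ * g) := by group
  rw [this]
  exact mul_mem s.2 h3

end

section

variable {S Ω : Type*} [Group S] [Finite S] [MulAction S Ω] {a : Ω} {t : S} {Q : Subgroup S} {i : ℕ}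

/-- an element of `D` centralizing `z` -/
theorem exists_commute (hf : Facts S Ω a t Q i) {z : S} (hz : z ∈ Q) (hz1 : z ≠ 1) (hzz : z * z = 1)
    (hcard : Nat.card {x : S // x ∈ Q ∧ x * x = 1} ≤ Nat.card ↥(stabilizer S a ⊓ stabilizer S (t • a))) :
    ∃ d ∈ stabilizer S a ⊓ stabilizer S (t • a), d ≠ 1 ∧ d * z = z * d := by
  by_contra hcon
  push Not at hcon
  have hinj : Function.Injective (fun d : Option ↥(stabilizer S a ⊓ stabilizer S (t • a)) =>
      (match d with
      | none => ⟨1, Q.one_mem, mul_one 1⟩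
      | some d => ⟨d * z * (d : S)⁻¹, hf.base.conj_mem _ d.2.1 z hz, by
        calc (d : S) * z * (d : S)⁻¹ * (d * z * (d : S)⁻¹) = d * (z * z) * (d : S)⁻¹ := by group
          _ = 1 := by rw [hzz]; group⟩ : {x : S // x ∈ Q ∧ x * x = 1})) := by
    have hne : ∀ d : S, d * z * d⁻¹ ≠ 1 := by
      intro d h
      apply hz1
      have : z = d⁻¹ * (d * z * d⁻¹) * d := by group
      rw [this, h]; group
    rintro (_ | d) (_ | e) hde
    · rfl
    · exact absurd (congrArg Subtype.val hde).symm (hne e)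
    · exact absurd (congrArg Subtype.val hde) (hne d)
    · have h1 : (d : S) * z * (d : S)⁻¹ = e * z * (e : S)⁻¹ := congrArg Subtype.val hde
      have h2 : ((e : S)⁻¹ * d) * z = z * ((e : S)⁻¹ * d) := by
        calc ((e : S)⁻¹ * d) * z = (e : S)⁻¹ * ((d : S) * z * (d : S)⁻¹) * d := by group
          _ = z * ((e : S)⁻¹ * d) := by rw [h1]; group
      by_contra h3
      refine hcon ((e : S)⁻¹ * d) (mul_mem (inv_mem e.2) d.2) ?_ h2
      intro h4
      apply h3
      rw [inv_mul_eq_one] at h4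
      exact congrArg some (Subtype.ext h4.symm)
  have h1 := Nat.card_le_card_of_injective _ hinj
  rw [Finite.card_option] at h1
  omega

theorem not_isPGroup_of_commute (hf : Facts S Ω a t Q i) {z d : S} (hd : d ∈ stabilizer S a ⊓ stabilizer S (t • a))
    (hd1 : d ≠ 1) (hdz : d * z = z * d) : ¬ IsPGroup 2 ↥(centralizer ({z} : Set S)) := by
  intro hp
  obtain ⟨k, hk⟩ := hp ⟨d, Subgroup.mem_centralizer_singleton_iff.2 hdz⟩
  have hk' : d ^ 2 ^ k = 1 := congrArg Subtype.val hk
  have h1 : orderOf d ∣ 2 ^ k := orderOf_dvd_of_pow_eq_one hk'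
  have h2 : Odd (orderOf d) := by
    have h3 := orderOf_dvd_natCard (⟨d, hd⟩ : ↥(stabilizer S a ⊓ stabilizer S (t • a)))
    rw [Subgroup.orderOf_mk] at h3
    exact Odd.of_dvd_nat hf.base.odd_card h3
  have h4 : orderOf d = 1 :=
    Nat.eq_one_of_dvd_coprimes (Nat.Coprime.pow_right k (Nat.coprime_two_right.mpr h2)) dvd_rfl h1
  exact hd1 (orderOf_eq_one_iff.1 h4)

end

section

variable {G : Type u} [Group G] [Finite G] {M : Ideal AlgInt} {S : Subgroup G} {Ω : Type*} [MulAction S Ω] {a : Ω}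
  {t : S} {Q : Subgroup S} {i : ℕ}

/-- **`|D| ≥ r`**, or `S ≠ G` -/
theorem main (h : Sit M G S) (hf : Facts S Ω a t Q i)
    (hr : Nat.card {x : S // x ∈ Q ∧ x * x = 1} < Nat.card Q)
    (hor : S.index ≠ 1 ∨
      Nat.card {x : S // x ∈ Q ∧ x * x = 1} ≤ Nat.card ↥(stabilizer S a ⊓ stabilizer S (t • a))) : False := by
  obtain ⟨x, hx, hxx⟩ : ∃ x ∈ Q, x * x ≠ 1 := by
    by_contra hcon
    push Not at hcon
    apply hr.ne
    exact Nat.card_congr (Equiv.subtypeEquivRight fun x => ⟨fun h1 => h1.1, fun h1 => ⟨h1, hcon x h1⟩⟩)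
  refine false_of_centralizer h hf hx hxx ?_
  rcases hor with h1 | h1
  · exact not_isPGroup_of_index h.normal h.odd h1 hf hxx (hf.sq x hx)
  · obtain ⟨d, hd, hd1, hdz⟩ := exists_commute hf (mul_mem hx hx) hxx (hf.sq x hx) h1
    intro hp
    refine not_isPGroup_of_commute hf hd hd1 hdz ?_
    intro c
    obtain ⟨k, hk⟩ := hp ⟨((c : S) : G), by
      rw [Subgroup.mem_centralizer_singleton_iff]
      exact congrArg Subtype.val (Subgroup.mem_centralizer_singleton_iff.1 c.2)⟩
    refine ⟨k, ?_⟩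
    have hk' : ((c : S) : G) ^ 2 ^ k = 1 := congrArg Subtype.val hk
    exact Subtype.ext (Subtype.ext hk')

end

end Cfsg.Agent.H353.K5
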