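import Mathlib
import Cfsg.Agent.OddOrderCharacters.IndRes
import Cfsg.Agent.Blocks.Deflate
import Cfsg.Agent.Characters.CCBasic
import Cfsg.Agent.Characters.Linear

/-!
# S4874, `p = 2`, T16: uniqueness of the Steinberg character of a rank-one group
-/

set_option autoImplicit false
set_option linter.unusedSectionVars false

open Cfsg Subgroup
open scoped ComplexConjugate

namespace Cfsg.Agent.H353.K5

open Cfsg.Agent.Characters.Core Cfsg.Agent.OddOrderCharacters.IndRes

/-- a nonabelian simple group has only the trivial linear character -/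
theorem eq_one_of_linear {S : Type*} [Group S] [IsSimpleGroup S] (hna : ¬ IsMulCommutative S)
    {χ : S → ℂ} (hχ : IsIrrCharacter S χ) (h1 : χ 1 = 1) : χ = 1 := by
  obtain ⟨f, rfl⟩ := Cfsg.Agent.Characters.Linear.exists_hom_of_isIrrCharacter hχ h1
  have hk : f.ker.Normal := inferInstance
  rcases hk.eq_bot_or_eq_top with h2 | h2
  · exfalso
    apply hna
    have hinj : Function.Injective f := (MonoidHom.ker_eq_bot_iff f).1 h2
    exact ⟨⟨fun a b => hinj (by rw [map_mul, map_mul, mul_comm])⟩⟩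
  · funext g
    have h3 : f g = 1 := by
      rw [← MonoidHom.mem_ker, h2]
      trivial
    change ((f g : ℂˣ) : ℂ) = 1
    rw [h3]
    rfl

/-- **The only character of degree divisible by `|Q|` is `1_B^S - 1`.** -/
theorem steinberg {S : Type*} [Group S] [Fintype S]
    (hlin : ∀ ψ : IrrCharacter S, (ψ : S → ℂ) 1 = 1 → (ψ : S → ℂ) = 1)
    (B Q : Subgroup S) (_hQB : Q ≤ B) [hn : (Q.subgroupOf B).Normal]
    (hcomm : ∀ x y : B ⧸ Q.subgroupOf B, x * y = y * x) (hidx : B.index = Nat.card Q + 1)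
    (hQ : 2 ≤ Nat.card Q) (χ : IrrCharacter S) (hχ : ∀ x ∈ Q, x ≠ 1 → (χ : S → ℂ) x = 0) :
    (χ : S → ℂ) = indFun B 1 - 1 := by
  classical
  let _ : Fintype B := Fintype.ofFinite B
  let _ : Fintype Q := Fintype.ofFinite Q
  let _ : Fintype (Q.subgroupOf B) := Fintype.ofFinite _
  have := finite_irr (G := S)
  have := finite_irr (G := B)
  let _ : Fintype (IrrCharacter S) := Fintype.ofFinite _
  let _ : Fintype (IrrCharacter B) := Fintype.ofFinite _
  choose d hd0 hd using fun ψ : IrrCharacter S => isIrr_apply_one ψ.2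
  -- `|Q|` divides the degree
  obtain ⟨n, hdn⟩ : ∃ n : ℕ, d χ = Nat.card Q * n := by
    obtain ⟨n, hn⟩ := classInner_isNat (G := Q) (isCharacter_comp Q.subtype (isIrr_isCharacter χ.2))
      (isCharacter_one (G := Q))
    refine ⟨n, ?_⟩
    rw [classInner_def] at hn
    have h1 : ∑ x : Q, ((χ : S → ℂ) ∘ Q.subtype) x * conj ((1 : Q → ℂ) x) = (d χ : ℂ) := by
      rw [Finset.sum_eq_single (1 : Q)]
      · simp [hd]
      · intro x _ hx
        have h2 : (χ : S → ℂ) (x : S) = 0 := hχ x x.2 fun h => hx (Subtype.ext h)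
        simp [h2]
      · exact fun h => absurd (Finset.mem_univ _) h
    rw [h1] at hn
    have h0 : (Nat.card Q : ℂ) ≠ 0 := card_ne_zero_complex
    have h3 : (d χ : ℂ) = (Nat.card Q : ℂ) * n := by
      rw [← hn]
      field_simp
    exact_mod_cast h3
  -- a constituent of the restriction trivial on `Q`
  obtain ⟨m, hm⟩ := exists_nat_comb (isCharacter_comp B.subtype (isIrr_isCharacter χ.2))
  have hres : ∀ b : B, (χ : S → ℂ) (b : S) = ∑ μ : IrrCharacter B, (m μ : ℂ) * (μ : B → ℂ) b := by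
    intro b
    have h1 := congrFun hm b
    rw [Finset.sum_apply] at h1
    simpa [nsmul_eq_mul] using h1
  have hsum : ∑ x : Q.subgroupOf B, (χ : S → ℂ) ((x : B) : S) = (d χ : ℂ) := by
    rw [Finset.sum_eq_single (1 : Q.subgroupOf B)]
    · simp [hd]
    · intro x _ hx
      exact hχ _ x.2 fun h => hx (Subtype.ext (Subtype.ext h))
    · exact fun h => absurd (Finset.mem_univ _) h
  have hsum2 : ∑ μ : IrrCharacter B, (m μ : ℂ) * ∑ x : Q.subgroupOf B, (μ : B → ℂ) x ≠ 0 := by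
    have h1 : ∑ μ : IrrCharacter B, (m μ : ℂ) * ∑ x : Q.subgroupOf B, (μ : B → ℂ) x = (d χ : ℂ) := by
      rw [← hsum]
      simp only [hres, Finset.mul_sum]
      exact Finset.sum_comm
    rw [h1]
    exact_mod_cast (hd0 χ).ne'
  obtain ⟨μ, -, hμ⟩ := Finset.exists_ne_zero_of_sum_ne_zero hsum2
  have hmμ : m μ ≠ 0 := by
    intro h
    rw [h] at hμ
    simp at hμ
  have hμ2 : ∑ x : Q.subgroupOf B, (μ : B → ℂ) x ≠ 0 := right_ne_zero_of_mul hμ
  obtain ⟨μ', hμ'⟩ := Cfsg.Agent.Blocks.Deflate.exists_deflation (Q.subgroupOf B) (μ : B → ℂ) μ.2 hμ2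
  have hμ1 : (μ : B → ℂ) 1 = 1 := by
    rw [hμ']
    exact Cfsg.Agent.Characters.CCBasic.irr_apply_one_of_comm hcomm μ'.2
  -- the induced character
  obtain ⟨f, hf⟩ := exists_nat_comb (isCharacter_indFun (G := S) B (isIrr_isCharacter μ.2))
  have hfin : ∀ ψ : IrrCharacter S, classInner (indFun B (μ : B → ℂ)) (ψ : S → ℂ) = (f ψ : ℂ) := by
    intro ψ
    rw [hf]
    exact classInner_sum_nsmul_irr f ψ
  have hfχ : f χ = m μ := by
    have h1 := hfin χ
    rw [classInner_indFun_left B _ (isIrr_isClassFunction χ.2), ← classInner_conj_symm] at h1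
    have h2 : classInner (res B (χ : S → ℂ)) (μ : B → ℂ) = (m μ : ℂ) := by
      have h3 : res B (χ : S → ℂ) = ∑ ψ : IrrCharacter B, m ψ • (ψ : B → ℂ) := hm
      rw [h3]
      exact classInner_sum_nsmul_irr m μ
    rw [h2] at h1
    have h4 : (m μ : ℂ) = (f χ : ℂ) := by
      rw [← h1]
      simp
    exact_mod_cast h4.symm
  have hdeg : ∑ ψ : IrrCharacter S, f ψ * d ψ = Nat.card Q + 1 := by
    have h1 := congrFun hf 1
    rw [indFun_apply_one, hμ1, mul_one, hidx, Finset.sum_apply] at h1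
    simp only [Pi.smul_apply, nsmul_eq_mul, hd] at h1
    exact_mod_cast h1.symm
  have hfχ0 : 0 < f χ := by rw [hfχ]; omega
  rw [← Finset.add_sum_erase _ _ (Finset.mem_univ χ)] at hdeg
  have hn0 : 0 < n := by
    rcases Nat.eq_zero_or_pos n with h | h
    · have h1 := hd0 χ
      rw [hdn, h, mul_zero] at h1
      omega
    · exact h
  have hfn : f χ * n = 1 := by
    have h1 : 0 < f χ * n := Nat.mul_pos hfχ0 hn0
    by_contra h2
    have h3 : 2 ≤ f χ * n := by omega
    have h4 : Nat.card Q * 2 ≤ f χ * d χ := by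
      rw [hdn]
      calc Nat.card Q * 2 ≤ Nat.card Q * (f χ * n) := Nat.mul_le_mul_left _ h3
        _ = f χ * (Nat.card Q * n) := by ring
    omega
  have hfχ1 : f χ = 1 := Nat.eq_one_of_mul_eq_one_right hfn
  have hn1 : n = 1 := Nat.eq_one_of_mul_eq_one_left hfn
  have hrest : ∑ ψ ∈ Finset.univ.erase χ, f ψ * d ψ = 1 := by
    rw [hfχ1, hdn, hn1] at hdeg
    omega
  obtain ⟨ψ₀, hψ₀, hψ₀'⟩ := Finset.exists_ne_zero_of_sum_ne_zero (s := Finset.univ.erase χ)
    (f := fun ψ => f ψ * d ψ) (by rw [hrest]; norm_num)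
  rw [← Finset.add_sum_erase _ _ hψ₀] at hrest
  have hz : ∀ ψ ∈ (Finset.univ.erase χ).erase ψ₀, f ψ = 0 := by
    intro ψ hψ
    have h1 : ∑ ψ ∈ (Finset.univ.erase χ).erase ψ₀, f ψ * d ψ = 0 := by
      have : 0 < f ψ₀ * d ψ₀ := Nat.pos_of_ne_zero hψ₀'
      omega
    have h2 := (Finset.sum_eq_zero_iff.1 h1) ψ hψ
    rcases Nat.mul_eq_zero.1 h2 with h3 | h3
    · exact h3
    · have := hd0 ψ
      omega
  have hfd : f ψ₀ * d ψ₀ = 1 := by
    have : 0 < f ψ₀ * d ψ₀ := Nat.pos_of_ne_zero hψ₀'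
    omega
  have hfψ : f ψ₀ = 1 := Nat.eq_one_of_mul_eq_one_right hfd
  have hdψ : d ψ₀ = 1 := Nat.eq_one_of_mul_eq_one_left hfd
  have hψ1 : (ψ₀ : S → ℂ) = 1 := hlin ψ₀ (by rw [hd, hdψ]; simp)
  have hΘ : indFun B (μ : B → ℂ) = (χ : S → ℂ) + 1 := by
    rw [hf, ← Finset.add_sum_erase _ _ (Finset.mem_univ χ), ← Finset.add_sum_erase _ _ hψ₀,
      Finset.sum_eq_zero (fun ψ hψ => by rw [hz ψ hψ, zero_smul]), hfχ1, hfψ, hψ1, one_smul, one_smul, add_zero]
  -- `μ = 1`
  have hμone : (μ : B → ℂ) = 1 := by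
    by_contra hne
    have h1 := hfin ψ₀
    rw [hψ1, classInner_indFun_left B _ (isIrr_isClassFunction isIrr_one)] at h1
    have h2 : res B (1 : S → ℂ) = 1 := rfl
    rw [h2, classInner_irr_ne μ.2 isIrr_one hne, hfψ] at h1
    norm_num at h1
  rw [hμone] at hΘ
  rw [hΘ]
  simp

end Cfsg.Agent.H353.K5
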