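import Mathlib
import Cfsg.Agent.H353.K5.U34
import Cfsg.Agent.H353.K5.Steinberg
import Cfsg.Agent.H870.KSz

/-!
# S4874, `p = 2`, T16: the rows `Sz(8)` and `U₃(4)`
-/

set_option autoImplicit false
set_option linter.unusedSectionVars false

open Cfsg Subgroup

namespace Cfsg.Agent.H353.K5

open MulAction (stabilizer)
open Cfsg.Agent.LieRecognition Cfsg.Agent.WeakTI.BenderAct Cfsg.Agent.WeakTI.BenderModel Cfsg.Agent.H844.K5
  Cfsg.Agent.H634 Cfsg.Agent.GH.Defs Cfsg.Agent.Characters.Core

universe u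

section

variable {S Ω : Type*} [Group S] [Finite S] [MulAction S Ω] {a : Ω} {t : S} {Q : Subgroup S} {i : ℕ}

/-- `D` is regular on the involutions of `Q` -/
theorem eq_one_of_commute (hf : Facts S Ω a t Q i) {z : S} (hz : z ∈ Q) (hz1 : z ≠ 1) (hzz : z * z = 1)
    (hcard : Nat.card ↥(stabilizer S a ⊓ stabilizer S (t • a)) + 1 ≤ Nat.card {x : S // x ∈ Q ∧ x * x = 1}) {d : S}
    (hd : d ∈ stabilizer S a ⊓ stabilizer S (t • a)) (hdz : d * z = z * d) : d = 1 := by
  classical
  obtain ⟨D, hD⟩ : ∃ D : Subgroup S, D = stabilizer S a ⊓ stabilizer S (t • a) := ⟨_, rfl⟩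
  rw [← hD] at hcard hd
  have hDa : ∀ d ∈ D, d ∈ stabilizer S a := fun d hd => by
    rw [hD] at hd
    exact hd.1
  have hconj : ∀ d ∈ D, d * z * d⁻¹ ∈ Q ∧ d * z * d⁻¹ * (d * z * d⁻¹) = 1 := by
    intro d hd
    refine ⟨hf.base.conj_mem _ (hDa d hd) z hz, ?_⟩
    calc d * z * d⁻¹ * (d * z * d⁻¹) = d * (z * z) * d⁻¹ := by group
      _ = 1 := by rw [hzz]; group
  let F : Option D → {x : S // x ∈ Q ∧ x * x = 1} := fun d => match d with
    | none => ⟨1, Q.one_mem, mul_one 1⟩
    | some d => ⟨d * z * (d : S)⁻¹, hconj d d.2⟩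
  have hsurj : Function.Surjective F := by
    rintro ⟨y, hy, hyy⟩
    by_cases hy1 : y = 1
    · exact ⟨none, Subtype.ext hy1.symm⟩
    · obtain ⟨g, hg⟩ := RankOneInvolutions.isConj_involutions hf.base hz1 hzz hy1 hyy
      have hga : g ∈ stabilizer S a := mem_stabilizer_of_conj hf.base hz hz1 (by rw [hg]; exact hy)
      obtain ⟨q, hq, d, hd, rfl⟩ := RankOneBasic.exists_mul_of_mem_stabilizer hf.base hga
      rw [← hD] at hd
      refine ⟨some ⟨d, hd⟩, Subtype.ext ?_⟩
      have h1 := hconj d hd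
      have h2 := hf.cent _ h1.1 h1.2 q hq
      change d * z * d⁻¹ = y
      rw [← hg]
      calc d * z * d⁻¹ = (d * z * d⁻¹ * q) * q⁻¹ := by group
        _ = q * (d * z * d⁻¹) * q⁻¹ := by rw [h2]
        _ = q * d * z * (q * d)⁻¹ := by group
  have hbij := Function.Surjective.bijective_of_nat_card_le hsurj (by
    rw [Finite.card_option]
    exact hcard)
  have h1 : F (some ⟨d, hd⟩) = F (some 1) := by
    apply Subtype.ext
    change d * z * d⁻¹ = (1 : S) * z * (1 : S)⁻¹
    rw [hdz]
    group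
  have h2 := Option.some.inj (hbij.1 h1)
  exact congrArg Subtype.val h2

theorem centralizer_le (hf : Facts S Ω a t Q i)
    (hcard : Nat.card ↥(stabilizer S a ⊓ stabilizer S (t • a)) + 1 ≤ Nat.card {x : S // x ∈ Q ∧ x * x = 1}) {x : S}
    (hx : x ∈ Q) (hx1 : x ≠ 1) : centralizer ({x} : Set S) ≤ Q := by
  have key : ∀ z ∈ Q, z ≠ 1 → z * z = 1 → centralizer ({z} : Set S) ≤ Q := by
    intro z hz hz1 hzz y hy
    rw [Subgroup.mem_centralizer_singleton_iff] at hy
    have hya : y ∈ stabilizer S a := mem_stabilizer_of_conj hf.base hz hz1 (by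
      rw [hy, mul_inv_cancel_right]; exact hz)
    obtain ⟨q, hq, d, hd, rfl⟩ := RankOneBasic.exists_mul_of_mem_stabilizer hf.base hya
    have h1 : d * z = z * d := by
      have h2 := hf.cent z hz hzz q hq
      calc d * z = q⁻¹ * (q * d * z) := by group
        _ = q⁻¹ * (z * q) * d := by rw [hy]; group
        _ = z * d := by rw [h2]; group
    rw [eq_one_of_commute hf hz hz1 hzz hcard hd h1, mul_one]
    exact hq
  by_cases hxx : x * x = 1
  · exact key x hx hx1 hxx
  · refine le_trans ?_ (key (x * x) (mul_mem hx hx) hxx (hf.sq x hx))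
    intro y hy
    rw [Subgroup.mem_centralizer_singleton_iff] at hy ⊢
    rw [← mul_assoc, hy, mul_assoc, hy, mul_assoc]

end

/-- characters outside the principal block -/
theorem eq_of_notMem {G : Type u} [Group G] [Fintype G] {M : Ideal AlgInt} (hM : IsPModular 2 M)
    [IsSimpleGroup G] (hna : ¬ IsMulCommutative G) {Ω : Type*} [MulAction G Ω] {a : Ω} {t : G} {Q : Subgroup G} {i : ℕ}
    (hf : Facts G Ω a t Q i)
    (hcard : Nat.card ↥(stabilizer G a ⊓ stabilizer G (t • a)) + 1 ≤ Nat.card {x : G // x ∈ Q ∧ x * x = 1})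
    (χ : IrrCharacter G) (hχ : χ ∉ principalBlock M G) :
    (χ : G → ℂ) = indFun (stabilizer G a) 1 - 1 := by
  have hvan : ∀ x ∈ Q, x ≠ 1 → (χ : G → ℂ) x = 0 := by
    intro x hx hx1
    have h1 : ∃ j : ℕ, orderOf x = 2 ^ j := by
      have h2 : orderOf x ∣ 2 ^ 2 := by
        apply orderOf_dvd_of_pow_eq_one
        have h3 : x ^ 2 ^ 2 = (x * x) * (x * x) := by simp [pow_succ, mul_assoc]
        rw [h3, hf.sq x hx]
      obtain ⟨k, -, hk⟩ := (Nat.dvd_prime_pow Nat.prime_two).1 h2
      exact ⟨k, hk⟩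
    have hle := centralizer_le hf hcard hx hx1
    have hp : IsPGroup 2 ↥(centralizer ({x} : Set G)) := (isPGroup_of_facts hf).to_le hle
    have hone := Cfsg.Agent.H104.EB.COne.oneBlock_of_constrained hM
      (⊤ : Subgroup ↥(centralizer ({x} : Set G))) (hp.to_subgroup ⊤) le_top
    have h4 := Cfsg.Agent.H104.EB.COne.vanish hM χ hχ x h1 hone 1 (by
      unfold IsPRegular
      rw [orderOf_one]
      norm_num) (Commute.one_right x)
    rwa [mul_one] at h4
  have hS := hf.base
  have := RankOneBasic.finite_points hS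
  have htr := Cfsg.Agent.S1119.isPretransitive hS
  have hn : (Q.subgroupOf (stabilizer G a)).Normal :=
    Subgroup.normal_subgroupOf_of_le_normalizer (RankOneBasic.stabilizer_le_normalizer hS)
  refine steinberg (fun ψ h1 => eq_one_of_linear hna ψ.2 h1) (stabilizer G a) Q hS.le ?_ ?_ ?_ χ hvan
  · intro x y
    induction x using QuotientGroup.induction_on with
    | H x =>
      induction y using QuotientGroup.induction_on with
      | H y =>
        obtain ⟨q, hq, d, hd, hx⟩ := RankOneBasic.exists_mul_of_mem_stabilizer hS x.2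
        obtain ⟨r, hr, e, he, hy⟩ := RankOneBasic.exists_mul_of_mem_stabilizer hS y.2
        have hx' : x = ⟨q, hS.le hq⟩ * ⟨d, hd.1⟩ := Subtype.ext hx
        have hy' : y = ⟨r, hS.le hr⟩ * ⟨e, he.1⟩ := Subtype.ext hy
        have h1 : ∀ (q : G) (hq : q ∈ Q), (QuotientGroup.mk (⟨q, hS.le hq⟩ : stabilizer G a) :
            stabilizer G a ⧸ Q.subgroupOf (stabilizer G a)) = 1 := by
          intro q hq
          rw [QuotientGroup.eq_one_iff]
          exact hq
        rw [hx', hy', QuotientGroup.mk_mul, QuotientGroup.mk_mul, h1 q hq, h1 r hr, one_mul, one_mul,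
          ← QuotientGroup.mk_mul, ← QuotientGroup.mk_mul]
        congr 1
        exact Subtype.ext (hf.tor d hd e he)
  · rw [MulAction.index_stabilizer_of_transitive, RankOneBasic.card_points hS]
  · have h1 : 2 ∣ Nat.card Q := even_iff_two_dvd.1 hS.even_card
    exact Nat.le_of_dvd Nat.card_pos h1

theorem row_sz8 {G : Type u} [Group G] [Finite G] {M : Ideal AlgInt} {S : Subgroup G} (h : Sit M G S)
    (e : IsSz8 S) : False := by
  by_cases h1 : S.index = 1
  · have hS : S = ⊤ := Subgroup.index_eq_one.1 h1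
    let eS : S ≃* G := (MulEquiv.subgroupCongr hS).trans Subgroup.topEquiv
    have eG : IsSz8 G := e.congr eS
    have hsim : IsSimpleGroup G := by
      have := h.simple
      exact (MulEquiv.isSimpleGroup_congr eS).1 h.simple
    have hna : ¬ IsMulCommutative G := by
      intro h2
      exact h.noncomm ⟨⟨fun x y => eS.injective (by rw [map_mul, map_mul]; exact h2.is_comm.comm _ _)⟩⟩
    obtain ⟨Ω, _, a, t, Q, hf, h2, h3, h4⟩ := facts_sz8 eG
    have := Fintype.ofFinite G
    have hsub : ∀ χ ∉ principalBlock M G, ∀ ψ ∉ principalBlock M G, χ = ψ := by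
      intro χ hχ ψ hψ
      have hc : Nat.card ↥(stabilizer G a ⊓ stabilizer G (t • a)) + 1 ≤ Nat.card {x : G // x ∈ Q ∧ x * x = 1} := by
        rw [h2, h4]
      apply Subtype.ext
      rw [eq_of_notMem h.modular hna hf hc χ hχ, eq_of_notMem h.modular hna hf hc ψ hψ]
    obtain ⟨F, _, _, hF, ⟨eF⟩⟩ := eG
    have hk := Cfsg.Agent.H870.KSz.q_add_le (F := F) (m := 1) le_rfl (by rw [hF]; norm_num)
    have hk2 : Nat.card (ConjClasses ↥(Cfsg.Lie.Sz F (2 ^ (1 + 1)))) ≤ Nat.card (ConjClasses G) := by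
      have : Finite (ConjClasses G) := Finite.of_surjective _ ConjClasses.mk_surjective
      exact Nat.card_le_card_of_surjective (ConjClasses.map (eF.toMonoidHom : G →* ↥(Cfsg.Lie.Sz F 4)))
        (ConjClasses.map_surjective eF.surjective)
    have hfin := finite_irr (G := G)
    have hk3 : Nat.card (IrrCharacter G) ≤ Nat.card (principalBlock M G) + 1 := by
      have h5 := Set.ncard_add_ncard_compl (principalBlock M G)
      have h6 : (principalBlock M G)ᶜ.ncard ≤ 1 := by
        rw [Set.ncard_le_one (Set.toFinite _)]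
        exact fun x hx y hy => hsub x hx y hy
      rw [Nat.card_coe_set_eq]
      omega
    rw [card_irr, h.five.card] at hk3
    norm_num at hk hk3
    omega
  · obtain ⟨Ω, _, a, t, Q, hf, h2, h3, h4⟩ := facts_sz8 e
    exact main h hf (by rw [h2, h3]; norm_num) (Or.inl h1)

end Cfsg.Agent.H353.K5
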